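import Mathlib
import Groth.Prelude.Def_W4c5spincurvestfNode

/-! Coordinates on the polynomial node ring `R[x,y]/(xy - π)`. -/

set_option autoImplicit false

universe u

namespace Groth.Agent.Node52

open SpinCurv

variable {R : Type u} [CommRing R]

/-- monomial of index `d` -/
noncomputable def mon (π : R) (d : ℤ) : PolyNodeRing R π :=
  PolyNodeRing.x R π ^ d.toNat * PolyNodeRing.y R π ^ (-d).toNat

theorem xy (π : R) : PolyNodeRing.x R π * PolyNodeRing.y R π = algebraMap R _ π := by
  rw [← map_mul]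
  exact Ideal.Quotient.eq.2 (Ideal.subset_span rfl)

theorem smul_eq (π : R) (r : R) (a : PolyNodeRing R π) : r • a = algebraMap R _ r * a :=
  Algebra.smul_def r a

theorem x_pow_y_pow (π : R) (i j : ℕ) :
    PolyNodeRing.x R π ^ i * PolyNodeRing.y R π ^ j = (π ^ min i j) • mon π ((i : ℤ) - j) := by
  rw [smul_eq, map_pow, ← xy, mul_pow, mon, show ((i : ℤ) - j).toNat = i - min i j by omega,
    show (-((i : ℤ) - j)).toNat = j - min i j by omega, mul_mul_mul_comm, ← pow_add, ← pow_add,
    Nat.add_sub_cancel' (min_le_left i j), Nat.add_sub_cancel' (min_le_right i j)]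

theorem mon_natCast (π : R) (i : ℕ) : mon π (i : ℤ) = PolyNodeRing.x R π ^ i := by
  simp [mon]

theorem mon_neg (π : R) (i : ℕ) : mon π (-(i : ℤ)) = PolyNodeRing.y R π ^ i := by
  simp [mon]

/-- coordinates, lifted to polynomials -/
noncomputable def coord0 (π : R) : MvPolynomial (Fin 2) R →ₗ[R] (ℤ →₀ R) :=
  (MvPolynomial.basisMonomials (Fin 2) R).constr R fun m =>
    Finsupp.single ((m 0 : ℤ) - m 1) (π ^ min (m 0) (m 1))

theorem coord0_monomial (π : R) (m : Fin 2 →₀ ℕ) (a : R) :
    coord0 π (MvPolynomial.monomial m a) = Finsupp.single ((m 0 : ℤ) - m 1) (a * π ^ min (m 0) (m 1)) := by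
  rw [show MvPolynomial.monomial m a = a • (MvPolynomial.basisMonomials (Fin 2) R) m by
    rw [MvPolynomial.coe_basisMonomials, MvPolynomial.smul_monomial, smul_eq_mul, mul_one]]
  rw [map_smul, coord0, Module.Basis.constr_basis, Finsupp.smul_single, smul_eq_mul]

theorem coord0_eq_zero (π : R) (a : MvPolynomial (Fin 2) R)
    (ha : a ∈ Ideal.span {(MvPolynomial.X 0 * MvPolynomial.X 1 - MvPolynomial.C π : MvPolynomial (Fin 2) R)}) :
    coord0 π a = 0 := by
  obtain ⟨c, rfl⟩ := Ideal.mem_span_singleton'.1 ha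
  induction c using MvPolynomial.induction_on' with
  | add p q hp hq => rw [add_mul, map_add, hp (Ideal.mul_mem_left _ _ (Ideal.subset_span rfl)),
      hq (Ideal.mul_mem_left _ _ (Ideal.subset_span rfl)), add_zero]
  | monomial m a =>
    rw [mul_sub, map_sub, show (MvPolynomial.X 0 * MvPolynomial.X 1 : MvPolynomial (Fin 2) R) =
      MvPolynomial.monomial (Finsupp.single 0 1 + Finsupp.single 1 1) 1 by
      rw [MvPolynomial.X, MvPolynomial.X, MvPolynomial.monomial_mul, mul_one],
      MvPolynomial.monomial_mul, mul_one, MvPolynomial.C_apply, MvPolynomial.monomial_mul, add_zero,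
      coord0_monomial, coord0_monomial]
    simp only [Finsupp.add_apply, Finsupp.single_eq_same, Fin.isValue, ne_eq, zero_ne_one, one_ne_zero,
      not_false_eq_true, Finsupp.single_eq_of_ne, add_zero, zero_add, Nat.cast_add, Nat.cast_one,
      add_sub_add_right_eq_sub, min_add_add_right, pow_succ']
    rw [← Finsupp.single_sub, sub_eq_zero.2 (mul_assoc a π _).symm, Finsupp.single_zero]

/-- coordinates on the node ring -/
noncomputable def coord (π : R) : PolyNodeRing R π →ₗ[R] (ℤ →₀ R) :=
  (Submodule.liftQ (Submodule.restrictScalars R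
      (Ideal.span {(MvPolynomial.X 0 * MvPolynomial.X 1 - MvPolynomial.C π : MvPolynomial (Fin 2) R)})) (coord0 π)
    fun a ha => coord0_eq_zero π a ha) ∘ₗ (Submodule.Quotient.restrictScalarsEquiv R _).symm.toLinearMap

theorem coord_mk (π : R) (a : MvPolynomial (Fin 2) R) :
    coord π (Ideal.Quotient.mk _ a) = coord0 π a := rfl

theorem coord_mon (π : R) (d : ℤ) : coord π (mon π d) = Finsupp.single d 1 := by
  rw [mon, ← map_pow, ← map_pow, ← map_mul, coord_mk, MvPolynomial.X_pow_eq_monomial,
    MvPolynomial.X_pow_eq_monomial, MvPolynomial.monomial_mul, mul_one, coord0_monomial]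
  simp only [Finsupp.add_apply, Finsupp.single_eq_same, Fin.isValue, ne_eq, zero_ne_one, one_ne_zero,
      not_false_eq_true, Finsupp.single_eq_of_ne, add_zero, zero_add, one_mul]
  rw [show min d.toNat (-d).toNat = 0 by omega, pow_zero]
  congr 1
  omega

theorem mk_monomial (π : R) (m : Fin 2 →₀ ℕ) (a : R) :
    (Ideal.Quotient.mk _ (MvPolynomial.monomial m a) : PolyNodeRing R π) =
      a • ((π ^ min (m 0) (m 1)) • mon π ((m 0 : ℤ) - m 1)) := by
  rw [← x_pow_y_pow, ← map_pow, ← map_pow, ← map_mul, smul_eq, MvPolynomial.monomial_eq,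
    Finsupp.prod_fintype _ _ (fun _ => pow_zero _), Fin.prod_univ_two, map_mul]
  rfl

/-- the node ring is free on the monomials -/
noncomputable def coordEquiv (π : R) : PolyNodeRing R π ≃ₗ[R] (ℤ →₀ R) :=
  LinearEquiv.ofLinearMap (coord π) (Finsupp.linearCombination R (mon π))
    (Finsupp.lhom_ext fun d r => by simp [Finsupp.linearCombination_single, coord_mon])
    (LinearMap.ext fun a => by
      obtain ⟨a, rfl⟩ := Ideal.Quotient.mk_surjective a
      induction a using MvPolynomial.induction_on' with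
      | add p q hp hq => rw [map_add, map_add, map_add, hp, hq]
      | monomial m a => simp [mk_monomial, coord_mon])

theorem coordEquiv_mon (π : R) (d : ℤ) : coordEquiv π (mon π d) = Finsupp.single d 1 := coord_mon π d

theorem ext_mon {π : R} {N : Type*} [AddCommMonoid N] [Module R N] {f g : PolyNodeRing R π →ₗ[R] N}
    (h : ∀ d, f (mon π d) = g (mon π d)) : f = g := by
  have : f ∘ₗ (coordEquiv π).symm.toLinearMap = g ∘ₗ (coordEquiv π).symm.toLinearMap :=
    Finsupp.lhom_ext fun d r => by
      rw [← Finsupp.smul_single_one, map_smul, map_smul, ← coordEquiv_mon π d]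
      simp [h]
  exact LinearMap.ext fun a => by simpa using LinearMap.congr_fun this (coordEquiv π a)

section chart

open LaurentPolynomial

variable {q : R} (g : PolyNodeRing R q →ₐ[R] LaurentPolynomial R)

theorem chart_mon (e : ℤ) (hx : g (PolyNodeRing.x R q) = T e)
    (hy : g (PolyNodeRing.y R q) = C q * T (-e)) (d : ℤ) :
    g (mon q d) = C (q ^ (-d).toNat) * T (e * d) := by
  rw [mon, map_mul, map_pow, map_pow, hx, hy, mul_pow, T_pow, T_pow, mul_left_comm, ← T_add, map_pow]
  congr 2
  calc (d.toNat : ℤ) * e + ((-d).toNat : ℤ) * (-e) = e * ((d.toNat : ℤ) - (-d).toNat) := by ring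
    _ = e * d := by congr 1; omega

theorem chart_coeff (e : ℤ) (he : e * e = 1) (hx : g (PolyNodeRing.x R q) = T e)
    (hy : g (PolyNodeRing.y R q) = C q * T (-e)) (a : PolyNodeRing R q) (d : ℤ) :
    (g a).coeff d = q ^ (-(e * d)).toNat * coordEquiv q a (e * d) := by
  refine LinearMap.congr_fun (f := (Finsupp.lapply d) ∘ₗ (AddMonoidAlgebra.coeffLinearEquiv R).toLinearMap ∘ₗ g.toLinearMap)
    (g := (q ^ (-(e * d)).toNat) • ((Finsupp.lapply (e * d)) ∘ₗ (coordEquiv q).toLinearMap)) (ext_mon fun m => ?_) a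
  simp only [LinearMap.comp_apply, LinearEquiv.coe_coe, AlgHom.toLinearMap_apply, LinearMap.smul_apply,
    Finsupp.lapply_apply, coordEquiv_mon, chart_mon g e hx hy, AddMonoidAlgebra.coeffLinearEquiv_apply,
    ← single_eq_C_mul_T, AddMonoidAlgebra.coeff_single, smul_eq_mul]
  by_cases h : m = e * d
  · subst h
    rw [← mul_assoc, he, one_mul, Finsupp.single_eq_same, Finsupp.single_eq_same, mul_one]
  · rw [Finsupp.single_eq_of_ne (fun hd => h (by rw [hd, ← mul_assoc, he, one_mul])),
      Finsupp.single_eq_of_ne (Ne.symm h), mul_zero]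

end chart

/-- twisted section of index `d` -/
noncomputable def secv (q p : R) (n d : ℤ) : PolyNodeRing R q × PolyNodeRing R p :=
  if 0 ≤ d then (p ^ (d - n).toNat • mon q d, mon p (n - d)) else (mon q d, q ^ (-d).toNat • mon p (n - d))

/-- parametrisation of twisted sections -/
noncomputable def sec (q p : R) (n : ℤ) : (ℤ →₀ R) →ₗ[R] PolyNodeRing R q × PolyNodeRing R p :=
  Finsupp.linearCombination R (secv q p n)

theorem sec_fst (q p : R) (n : ℤ) (h : ℤ →₀ R) (d : ℤ) :
    coordEquiv q (sec q p n h).1 d = (if 0 ≤ d then p ^ (d - n).toNat else 1) * h d := by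
  induction h using Finsupp.induction_linear with
  | zero => simp
  | add f g hf hg => simp [hf, hg, mul_add]
  | single e r =>
    rw [sec, Finsupp.linearCombination_single, secv]
    by_cases he : e = d
    · subst he; split_ifs <;> simp [coordEquiv_mon, mul_comm]
    · split_ifs <;> simp [coordEquiv_mon, Finsupp.single_eq_of_ne (Ne.symm he)]

theorem sec_snd (q p : R) (n : ℤ) (h : ℤ →₀ R) (d : ℤ) :
    coordEquiv p (sec q p n h).2 (n - d) = (if 0 ≤ d then 1 else q ^ (-d).toNat) * h d := by
  induction h using Finsupp.induction_linear with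
  | zero => simp
  | add f g hf hg => simp [hf, hg, mul_add]
  | single e r =>
    rw [sec, Finsupp.linearCombination_single, secv]
    by_cases he : e = d
    · subst he; split_ifs <;> simp [coordEquiv_mon, mul_comm]
    · split_ifs <;> simp [coordEquiv_mon, Finsupp.single_eq_of_ne (Ne.symm he),
        Finsupp.single_eq_of_ne (show n - d ≠ n - e by omega)]

theorem sec_injective (q p : R) (n : ℤ) : Function.Injective (sec q p n) := by
  intro a b hab
  ext d
  have h1 := sec_fst q p n a d
  have h2 := sec_snd q p n a d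
  rw [hab] at h1 h2
  rw [sec_fst] at h1
  rw [sec_snd] at h2
  split_ifs at h1 h2 <;> simp_all

theorem mem_range_sec_iff {q p : R}
    (gU : PolyNodeRing R q →ₐ[R] LaurentPolynomial R)
    (hgUs : gU (PolyNodeRing.x R q) = LaurentPolynomial.T 1)
    (hgUy : gU (PolyNodeRing.y R q) = LaurentPolynomial.C q * LaurentPolynomial.T (-1))
    (gV : PolyNodeRing R p →ₐ[R] LaurentPolynomial R)
    (hgVt : gV (PolyNodeRing.x R p) = LaurentPolynomial.T (-1))
    (hgVx : gV (PolyNodeRing.y R p) = LaurentPolynomial.C p * LaurentPolynomial.T 1)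
    (n : ℤ) (hn : -1 ≤ n) (gf : PolyNodeRing R q × PolyNodeRing R p) :
    gU gf.1 = LaurentPolynomial.T n * gV gf.2 ↔ gf ∈ LinearMap.range (sec q p n) := by
  have hU : ∀ d, (gU gf.1).coeff d = q ^ (-d).toNat * coordEquiv q gf.1 d := fun d => by
    rw [chart_coeff gU 1 (one_mul 1) hgUs hgUy, one_mul]
  have hV : ∀ d, (LaurentPolynomial.T n * gV gf.2).coeff d = p ^ (d - n).toNat * coordEquiv p gf.2 (n - d) := fun d => by
    rw [LaurentPolynomial.T, AddMonoidAlgebra.coeff_single_mul_apply, one_mul,
      chart_coeff gV (-1) (by norm_num) hgVt (by rw [neg_neg]; exact hgVx)]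
    congr 2 <;> omega
  constructor
  · intro h
    have h' : ∀ d, q ^ (-d).toNat * coordEquiv q gf.1 d = p ^ (d - n).toNat * coordEquiv p gf.2 (n - d) := fun d => by
      rw [← hU, ← hV, h]
    refine ⟨(coordEquiv q gf.1).filter (· < 0) + (Finsupp.mapDomain (n - ·) (coordEquiv p gf.2)).filter (0 ≤ ·), ?_⟩
    have hm : ∀ d, Finsupp.mapDomain (n - ·) (coordEquiv p gf.2) d = coordEquiv p gf.2 (n - d) := fun d => by
      conv_lhs => rw [show d = n - (n - d) by omega]
      exact Finsupp.mapDomain_apply (fun a b hab => by simpa using hab) _ _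
    refine Prod.ext ((coordEquiv q).injective (Finsupp.ext fun d => ?_)) ((coordEquiv p).injective (Finsupp.ext fun m => ?_))
    · rw [sec_fst, Finsupp.add_apply, Finsupp.filter_apply, Finsupp.filter_apply, hm]
      by_cases hd : 0 ≤ d
      · rw [if_pos hd, if_neg (by omega), if_pos hd, zero_add, ← h' d, show (-d).toNat = 0 by omega, pow_zero, one_mul]
      · rw [if_neg hd, if_pos (by omega), if_neg hd, add_zero, one_mul]
    · obtain ⟨d, rfl⟩ : ∃ d, m = n - d := ⟨n - m, by omega⟩
      rw [sec_snd, Finsupp.add_apply, Finsupp.filter_apply, Finsupp.filter_apply, hm]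
      by_cases hd : 0 ≤ d
      · rw [if_pos hd, if_neg (by omega), if_pos hd, zero_add, one_mul]
      · rw [if_neg hd, if_pos (by omega), if_neg hd, add_zero, h' d, show (d - n).toNat = 0 by omega, pow_zero, one_mul]
  · rintro ⟨h, rfl⟩
    refine AddMonoidAlgebra.ext (Finsupp.ext fun d => ?_)
    rw [hU, hV, sec_fst, sec_snd]
    by_cases hd : 0 ≤ d
    · rw [if_pos hd, if_pos hd, show (-d).toNat = 0 by omega, pow_zero, one_mul, one_mul]
    · rw [if_neg hd, if_neg hd, show (d - n).toNat = 0 by omega, pow_zero, one_mul, one_mul]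

end Groth.Agent.Node52
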