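import Mathlib
import Groth.Prelude.Def_W4c5spincurvestfNode

/-! Coordinates on the completed node ring `R[[x,y]]/(xy - π)`, `π` topologically nilpotent. -/

set_option autoImplicit false

universe u

namespace Groth.Agent.Node52

open SpinCurv

variable {R : Type u} [CommRing R] {I : Ideal R}

theorem eq_zero_of_forall_mem [IsAdicComplete I R] {x : R} (h : ∀ n : ℕ, x ∈ I ^ n) : x = 0 :=
  IsHausdorff.haus (IsAdicComplete.toIsHausdorff (I := I) (M := R)) x fun n => by
    rw [SModEq.zero, smul_eq_mul, Ideal.mul_top]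
    exact h n

theorem exists_sol [IsAdicComplete I R] {π : R} (hπ : π ∈ I) (a : ℕ → R) :
    ∃ s : ℕ → R, ∀ k, s k = a k + π * s (k + 1) := by
  let f : ℕ → ℕ → R := fun k N => ∑ l ∈ Finset.range N, π ^ l * a (k + l)
  have hc : ∀ k {m N : ℕ}, m ≤ N → f k m ≡ f k N [SMOD (I ^ m • ⊤ : Submodule R R)] := fun k m N hmN => by
    rw [SModEq.sub_mem, smul_eq_mul, Ideal.mul_top, ← neg_sub, neg_mem_iff, ← Finset.sum_Ico_eq_sub _ hmN]
    exact sum_mem fun l hl => Ideal.mul_mem_right _ _
      (Ideal.pow_le_pow_right (Finset.mem_Ico.1 hl).1 (Ideal.pow_mem_pow hπ l))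
  choose L hL using fun k => IsPrecomplete.prec (IsAdicComplete.toIsPrecomplete (I := I) (M := R)) (hc k)
  have hL' : ∀ k N, f k N - L k ∈ I ^ N := fun k N => by
    have := hL k N
    rwa [SModEq.sub_mem, smul_eq_mul, Ideal.mul_top] at this
  refine ⟨L, fun k => sub_eq_zero.1 (eq_zero_of_forall_mem (I := I) fun N => ?_)⟩
  have h1 : f k (N + 1) = a k + π * f (k + 1) N := by
    simp only [f, Finset.sum_range_succ', Finset.mul_sum, pow_zero, one_mul, add_zero, pow_succ']
    rw [add_comm]
    congr 1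
    exact Finset.sum_congr rfl fun l _ => by rw [mul_assoc]; congr 3; omega
  rw [show L k - (a k + π * L (k + 1)) = π * (f (k + 1) N - L (k + 1)) - (f k (N + 1) - L k) by rw [h1]; ring]
  exact sub_mem (Ideal.mul_mem_left _ _ (hL' _ _)) (Ideal.pow_le_pow_right (Nat.le_succ N) (hL' _ _))

theorem sol_unique [IsAdicComplete I R] {π : R} (hπ : π ∈ I) {a s t : ℕ → R}
    (hs : ∀ k, s k = a k + π * s (k + 1)) (ht : ∀ k, t k = a k + π * t (k + 1)) : s = t := by
  funext k
  refine sub_eq_zero.1 (eq_zero_of_forall_mem (I := I) fun N => ?_)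
  have : s k - t k = π ^ N * (s (k + N) - t (k + N)) := by
    induction N with
    | zero => simp
    | succ N ih => rw [ih, hs (k + N), ht (k + N), add_assoc k N 1]; ring
  rw [this]
  exact Ideal.mul_mem_right _ _ (Ideal.pow_mem_pow hπ N)

variable [IsAdicComplete I R] {π : R} (hπ : π ∈ I)

/-- the solution of the recursion -/
noncomputable def sol (a : ℕ → R) : ℕ → R := (exists_sol hπ a).choose

theorem sol_spec (a : ℕ → R) (k : ℕ) : sol hπ a k = a k + π * sol hπ a (k + 1) :=
  (exists_sol hπ a).choose_spec k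

theorem sol_eq {a s : ℕ → R} (hs : ∀ k, s k = a k + π * s (k + 1)) : sol hπ a = s :=
  sol_unique hπ (sol_spec hπ a) hs

/-- the exponent `(i, j)` -/
noncomputable def ex (i j : ℕ) : Fin 2 →₀ ℕ := Finsupp.single 0 i + Finsupp.single 1 j

theorem ex_zero (i j : ℕ) : ex i j 0 = i := by simp [ex]

theorem ex_one (i j : ℕ) : ex i j 1 = j := by simp [ex]

theorem eq_ex (m : Fin 2 →₀ ℕ) : m = ex (m 0) (m 1) := by
  ext i
  fin_cases i <;> simp [ex]

/-- the diagonal of index `d` -/
noncomputable def diag (a : MvPowerSeries (Fin 2) R) (d : ℤ) (k : ℕ) : R :=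
  MvPowerSeries.coeff (ex (d.toNat + k) ((-d).toNat + k)) a

theorem coeff_eq_diag (a : MvPowerSeries (Fin 2) R) (m : Fin 2 →₀ ℕ) :
    MvPowerSeries.coeff m a = diag a ((m 0 : ℤ) - m 1) (min (m 0) (m 1)) := by
  rw [diag]
  congr 2
  conv_lhs => rw [eq_ex m]
  congr 1 <;> omega

/-- coordinates, before passing to the quotient -/
noncomputable def pcoord0 : MvPowerSeries (Fin 2) R →ₗ[R] (ℤ → R) where
  toFun a := fun d => sol hπ (diag a d) 0
  map_add' a b := funext fun d => by
    rw [sol_eq hπ (s := fun k => sol hπ (diag a d) k + sol hπ (diag b d) k) fun k => ?_]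
    · rfl
    · rw [sol_spec hπ (diag a d) k, sol_spec hπ (diag b d) k]
      simp only [diag, map_add]
      ring
  map_smul' r a := funext fun d => by
    rw [sol_eq hπ (s := fun k => r * sol hπ (diag a d) k) fun k => ?_]
    · rfl
    · rw [sol_spec hπ (diag a d) k]
      simp only [diag, map_smul, smul_eq_mul]
      ring

theorem coeff_rel_mul (b : MvPowerSeries (Fin 2) R) (i j : ℕ) :
    MvPowerSeries.coeff (ex i j) ((MvPowerSeries.X 0 * MvPowerSeries.X 1 - MvPowerSeries.C π) * b) =
      (if 1 ≤ i ∧ 1 ≤ j then MvPowerSeries.coeff (ex (i - 1) (j - 1)) b else 0) - π * MvPowerSeries.coeff (ex i j) b := by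
  classical
  rw [sub_mul, map_sub, MvPowerSeries.coeff_C_mul, show (MvPowerSeries.X 0 * MvPowerSeries.X 1 : MvPowerSeries (Fin 2) R) =
    MvPowerSeries.monomial (ex 1 1) 1 by
      rw [MvPowerSeries.X_def, MvPowerSeries.X_def, MvPowerSeries.monomial_mul_monomial, mul_one, ex],
    MvPowerSeries.coeff_monomial_mul, one_mul]
  have hle : ex 1 1 ≤ ex i j ↔ 1 ≤ i ∧ 1 ≤ j := by
    rw [Finsupp.le_def, Fin.forall_fin_two]; simp only [ex_zero, ex_one]
  have hsub : ex i j - ex 1 1 = ex (i - 1) (j - 1) := by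
    rw [eq_ex (ex i j - ex 1 1)]; simp only [Finsupp.tsub_apply, ex_zero, ex_one]
  simp only [hle, hsub]

theorem mem_ker_pcoord0 (a : MvPowerSeries (Fin 2) R) : pcoord0 hπ a = 0 ↔
    a ∈ Ideal.span {(MvPowerSeries.X 0 * MvPowerSeries.X 1 - MvPowerSeries.C π : MvPowerSeries (Fin 2) R)} := by
  rw [Ideal.mem_span_singleton']
  constructor
  · intro h
    let b : MvPowerSeries (Fin 2) R := fun m => sol hπ (diag a ((m 0 : ℤ) - m 1)) (min (m 0) (m 1) + 1)
    have hb : ∀ i j, MvPowerSeries.coeff (ex i j) b = sol hπ (diag a ((i : ℤ) - j)) (min i j + 1) := fun i j => by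
      rw [MvPowerSeries.coeff_apply]; simp only [b, ex_zero, ex_one]
    refine ⟨b, ?_⟩
    ext m
    rw [mul_comm, eq_ex m, coeff_rel_mul]
    generalize m 0 = i
    generalize m 1 = j
    rw [coeff_eq_diag a (ex i j), ex_zero, ex_one]
    have h0 : sol hπ (diag a ((i : ℤ) - j)) 0 = 0 := congrFun h _
    split_ifs with hij
    · obtain ⟨i, rfl⟩ := Nat.exists_eq_add_of_le' hij.1
      obtain ⟨j, rfl⟩ := Nat.exists_eq_add_of_le' hij.2
      rw [hb, hb, Nat.add_sub_cancel, Nat.add_sub_cancel, show min (i + 1) (j + 1) = min i j + 1 by omega, sol_spec hπ _ (min i j + 1)]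
      push_cast
      rw [add_sub_add_right_eq_sub]
      ring
    · rw [hb, show min i j = 0 by omega, zero_add]
      rw [sol_spec hπ _ 0, zero_add] at h0
      linear_combination -h0
  · rintro ⟨b, rfl⟩
    funext d
    have key := sol_eq hπ (a := diag (b * (MvPowerSeries.X 0 * MvPowerSeries.X 1 - MvPowerSeries.C π)) d)
      (s := fun | 0 => 0 | k + 1 => diag b d k) fun k => ?_
    · show sol hπ _ 0 = 0
      rw [key]
    · rw [diag, mul_comm, coeff_rel_mul]
      cases k with
      | zero =>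
        rw [if_neg (by omega), zero_sub]
        simp only [add_zero, diag, neg_add_cancel]
      | succ k =>
        rw [if_pos (by omega)]
        simp only [diag, ← add_assoc, Nat.add_sub_cancel]
        ring

theorem pcoord0_surjective : Function.Surjective (pcoord0 hπ) := fun c => by
  let A : MvPowerSeries (Fin 2) R := fun m => if min (m 0) (m 1) = 0 then c ((m 0 : ℤ) - m 1) else 0
  refine ⟨A, funext fun d => ?_⟩
  have key := sol_eq hπ (a := diag A d)
    (s := fun | 0 => c d | _ + 1 => 0) fun k => ?_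
  · show sol hπ _ 0 = c d
    rw [key]
  · have hA : ∀ m, MvPowerSeries.coeff m A = if min (m 0) (m 1) = 0 then c ((m 0 : ℤ) - m 1) else 0 := fun m => rfl
    simp only [diag, hA, ex_zero, ex_one]
    cases k with
    | zero =>
      rw [if_pos (by omega)]
      simp only [mul_zero, add_zero]
      congr 1
      omega
    | succ k => rw [if_neg (by omega)]; simp

/-- the node ring as sequences indexed by integers -/
noncomputable def pcoord : NodeRing R π ≃ₗ[R] (ℤ → R) :=
  LinearEquiv.ofBijective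
    ((Submodule.liftQ (Submodule.restrictScalars R
        (Ideal.span {(MvPowerSeries.X 0 * MvPowerSeries.X 1 - MvPowerSeries.C π : MvPowerSeries (Fin 2) R)}))
        (pcoord0 hπ) fun a ha => (mem_ker_pcoord0 hπ a).2 ha) ∘ₗ
      (Submodule.Quotient.restrictScalarsEquiv R _).symm.toLinearMap)
    ⟨(injective_iff_map_eq_zero _).2 fun a ha => by
        obtain ⟨a, rfl⟩ := Ideal.Quotient.mk_surjective a
        exact Ideal.Quotient.eq_zero_iff_mem.2 ((mem_ker_pcoord0 hπ a).1 ha),
      fun c => by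
        obtain ⟨a, ha⟩ := pcoord0_surjective hπ c
        exact ⟨Ideal.Quotient.mk _ a, ha⟩⟩

theorem pcoord_mk (a : MvPowerSeries (Fin 2) R) :
    pcoord hπ (Ideal.Quotient.mk _ a) = pcoord0 hπ a := rfl

theorem pcoord_algebraMap_mul (r : R) (a : NodeRing R π) (d : ℤ) :
    pcoord hπ (algebraMap R _ r * a) d = r * pcoord hπ a d := by
  rw [← show r • a = algebraMap R _ r * a from Algebra.smul_def r a, map_smul]
  rfl

theorem coeff_X_mul' (a : MvPowerSeries (Fin 2) R) (i j : ℕ) :
    MvPowerSeries.coeff (ex i j) (MvPowerSeries.X 0 * a) = (if 1 ≤ i then MvPowerSeries.coeff (ex (i - 1) j) a else 0) ∧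
    MvPowerSeries.coeff (ex i j) (MvPowerSeries.X 1 * a) = (if 1 ≤ j then MvPowerSeries.coeff (ex i (j - 1)) a else 0) := by
  classical
  constructor <;>
    rw [MvPowerSeries.X_def, MvPowerSeries.coeff_monomial_mul, one_mul]
  · have hle : Finsupp.single 0 1 ≤ ex i j ↔ 1 ≤ i := by rw [Finsupp.le_def, Fin.forall_fin_two]; simp [ex_zero, ex_one]
    have hsub : ex i j - Finsupp.single 0 1 = ex (i - 1) j := by
      rw [eq_ex (ex i j - Finsupp.single 0 1)]; simp [ex_zero, ex_one]
    simp only [hle, hsub]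
  · have hle : Finsupp.single 1 1 ≤ ex i j ↔ 1 ≤ j := by rw [Finsupp.le_def, Fin.forall_fin_two]; simp [ex_zero, ex_one]
    have hsub : ex i j - Finsupp.single 1 1 = ex i (j - 1) := by
      rw [eq_ex (ex i j - Finsupp.single 1 1)]; simp [ex_zero, ex_one]
    simp only [hle, hsub]

theorem pcoord_x_mul (a : NodeRing R π) (d : ℤ) :
    pcoord hπ (NodeRing.x R π * a) d = (if 1 ≤ d then 1 else π) * pcoord hπ a (d - 1) := by
  obtain ⟨a, rfl⟩ := Ideal.Quotient.mk_surjective a
  rw [← map_mul, pcoord_mk, pcoord_mk]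
  show sol hπ (diag _ d) 0 = _ * sol hπ (diag a (d - 1)) 0
  by_cases hd : 1 ≤ d
  · rw [if_pos hd, one_mul]
    rw [show diag (MvPowerSeries.X 0 * a) d = diag a (d - 1) from funext fun k => by
      rw [diag, (coeff_X_mul' a _ _).1, if_pos (by omega), diag, show d.toNat + k - 1 = (d - 1).toNat + k by omega,
        show (-(d - 1)).toNat = (-d).toNat by omega]]
  · rw [if_neg hd, sol_eq hπ (s := fun | 0 => π * sol hπ (diag a (d - 1)) 0 | k + 1 => sol hπ (diag a (d - 1)) k) fun k => ?_]
    rw [diag, (coeff_X_mul' a _ _).1]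
    cases k with
    | zero => rw [if_neg (by omega), zero_add]
    | succ k =>
      rw [if_pos (by omega)]
      dsimp only
      rw [sol_spec hπ _ k, diag, show (d - 1).toNat + k = d.toNat + (k + 1) - 1 by omega,
        show (-(d - 1)).toNat + k = (-d).toNat + (k + 1) by omega]

theorem pcoord_y_mul (a : NodeRing R π) (d : ℤ) :
    pcoord hπ (NodeRing.y R π * a) d = (if d ≤ -1 then 1 else π) * pcoord hπ a (d + 1) := by
  obtain ⟨a, rfl⟩ := Ideal.Quotient.mk_surjective a
  rw [← map_mul, pcoord_mk, pcoord_mk]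
  show sol hπ (diag _ d) 0 = _ * sol hπ (diag a (d + 1)) 0
  by_cases hd : d ≤ -1
  · rw [if_pos hd, one_mul]
    rw [show diag (MvPowerSeries.X 1 * a) d = diag a (d + 1) from funext fun k => by
      rw [diag, (coeff_X_mul' a _ _).2, if_pos (by omega), diag, show (-d).toNat + k - 1 = (-(d + 1)).toNat + k by omega,
        show (d + 1).toNat = d.toNat by omega]]
  · rw [if_neg hd, sol_eq hπ (s := fun | 0 => π * sol hπ (diag a (d + 1)) 0 | k + 1 => sol hπ (diag a (d + 1)) k) fun k => ?_]
    rw [diag, (coeff_X_mul' a _ _).2]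
    cases k with
    | zero => rw [if_neg (by omega), zero_add]
    | succ k =>
      rw [if_pos (by omega)]
      dsimp only
      rw [sol_spec hπ _ k, diag, show (d + 1).toNat + k = d.toNat + (k + 1) by omega,
        show (-(d + 1)).toNat + k = (-d).toNat + (k + 1) - 1 by omega]

theorem coeff_toMvPowerSeries (i : Fin 2) (f : PowerSeries R) (m : Fin 2 →₀ ℕ) :
    MvPowerSeries.coeff m (PowerSeries.toMvPowerSeries i f) =
      if m = Finsupp.single i (m i) then PowerSeries.coeff (m i) f else 0 := by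
  classical
  rw [PowerSeries.toMvPowerSeries_apply]
  split_ifs with h
  · obtain ⟨n, rfl⟩ : ∃ n, m = Finsupp.single i n := ⟨_, h⟩
    have h2 := MvPowerSeries.coeff_embDomain_rename (Function.Embedding.punit i) f (Finsupp.single PUnit.unit n)
    rw [Finsupp.embDomain_single] at h2
    rw [Finsupp.single_eq_same]
    exact h2
  · refine MvPowerSeries.coeff_rename_eq_zero _ _ fun ⟨x, hx⟩ => h ?_
    rw [← hx, Finsupp.unique_single x, Finsupp.mapDomain_single, Finsupp.single_eq_same]

theorem pcoord_ofX (f : PowerSeries R) (d : ℤ) :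
    pcoord hπ (NodeRing.ofX R π f) d = if 0 ≤ d then PowerSeries.coeff d.toNat f else 0 := by
  rw [pcoord_mk]
  show sol hπ (diag _ d) 0 = _
  rw [sol_eq hπ (s := fun | 0 => if 0 ≤ d then PowerSeries.coeff d.toNat f else 0 | _ + 1 => 0) fun k => ?_]
  rw [diag, coeff_toMvPowerSeries, ex_zero]
  cases k with
  | zero =>
    have : ex (d.toNat + 0) ((-d).toNat + 0) = Finsupp.single 0 (d.toNat + 0) ↔ 0 ≤ d := by
      rw [Finsupp.ext_iff, Fin.forall_fin_two]; simp [ex_zero, ex_one]
    simp only [add_zero] at this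
    simp only [this, mul_zero, add_zero]
  | succ k =>
    have hne : ex (d.toNat + (k + 1)) ((-d).toNat + (k + 1)) ≠
        Finsupp.single 0 (d.toNat + (k + 1)) := fun h => by
      have := DFunLike.congr_fun h 1
      simp [ex_one] at this
    rw [if_neg hne]
    simp

theorem pcoord_ofY (f : PowerSeries R) (d : ℤ) :
    pcoord hπ (NodeRing.ofY R π f) d = if d ≤ 0 then PowerSeries.coeff (-d).toNat f else 0 := by
  rw [pcoord_mk]
  show sol hπ (diag _ d) 0 = _
  rw [sol_eq hπ (s := fun | 0 => if d ≤ 0 then PowerSeries.coeff (-d).toNat f else 0 | _ + 1 => 0) fun k => ?_]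
  rw [diag, coeff_toMvPowerSeries, ex_one]
  cases k with
  | zero =>
    have : ex (d.toNat + 0) ((-d).toNat + 0) = Finsupp.single 1 ((-d).toNat + 0) ↔ d ≤ 0 := by
      rw [Finsupp.ext_iff, Fin.forall_fin_two]; simp [ex_zero, ex_one]
    simp only [add_zero] at this
    simp only [this, mul_zero, add_zero]
  | succ k =>
    have hne : ex (d.toNat + (k + 1)) ((-d).toNat + (k + 1)) ≠
        Finsupp.single 1 ((-d).toNat + (k + 1)) := fun h => by
      have := DFunLike.congr_fun h 0
      simp [ex_zero] at this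
    rw [if_neg hne]
    simp

end Groth.Agent.Node52
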